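import Mathlib
import Cfsg.Agent.Lib.Helper56.TC
import Cfsg.Agent.Lib.Helper56.Fi24V9.C0
import Cfsg.Agent.Lib.Helper56.Fi24V9.C1
import Cfsg.Agent.Lib.Helper56.Fi24V9.C2
import Cfsg.Agent.Lib.Helper56.Fi24V9.C3
import Cfsg.Agent.Lib.Helper56.Fi24V9.C4
import Cfsg.Agent.Lib.Helper56.Fi24V9.C5
import Cfsg.Agent.Lib.Helper56.Fi24V9.C6
import Cfsg.Agent.Lib.Helper56.Fi24V9.C7
import Cfsg.Agent.Lib.Helper56.Fi24V9.C8
import Cfsg.Agent.Lib.Helper56.Fi24V9.C9
import Cfsg.Agent.Lib.Helper56.Fi24V9.C10
import Cfsg.Agent.Lib.Helper56.Fi24V9.C11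
import Cfsg.Agent.Lib.Helper56.Fi24V9.C12
import Cfsg.Agent.Lib.Helper56.Fi24V9.C13
import Cfsg.Agent.Lib.Helper56.Fi24V9.C14
import Cfsg.Agent.Lib.Helper56.Fi24V9.C15
import Cfsg.Agent.Lib.Helper56.Fi24V9.C16
import Cfsg.Agent.Lib.Helper56.Fi24V9.C17
import Cfsg.Agent.Lib.Helper56.Fi24V9.C18
set_option autoImplicit false
set_option maxRecDepth 1000000

namespace Cfsg.Agent.Lib.Helper56.Fi24V9

open Cfsg.Agent.Lib.Helper56.TC Cfsg.Agent.Lib.Helper56.TC.Tabs

theorem uN_453 : Upto T.chkName 453 := upto_add (upto_zero T.chkName) rfl cN_0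
theorem uN_910 : Upto T.chkName 910 := upto_add uN_453 rfl cN_453
theorem uN_1367 : Upto T.chkName 1367 := upto_add uN_910 rfl cN_910
theorem uN_1826 : Upto T.chkName 1826 := upto_add uN_1367 rfl cN_1367
theorem uN_2285 : Upto T.chkName 2285 := upto_add uN_1826 rfl cN_1826
theorem uN_2746 : Upto T.chkName 2746 := upto_add uN_2285 rfl cN_2285
theorem uN_3206 : Upto T.chkName 3206 := upto_add uN_2746 rfl cN_2746
theorem uN_3665 : Upto T.chkName 3665 := upto_add uN_3206 rfl cN_3206
theorem uN_4128 : Upto T.chkName 4128 := upto_add uN_3665 rfl cN_3665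
theorem uN_4589 : Upto T.chkName 4589 := upto_add uN_4128 rfl cN_4128
theorem uN_5052 : Upto T.chkName 5052 := upto_add uN_4589 rfl cN_4589
theorem uN_5511 : Upto T.chkName 5511 := upto_add uN_5052 rfl cN_5052
theorem uN_5977 : Upto T.chkName 5977 := upto_add uN_5511 rfl cN_5511
theorem uN_6436 : Upto T.chkName 6436 := upto_add uN_5977 rfl cN_5977
theorem uN_6899 : Upto T.chkName 6899 := upto_add uN_6436 rfl cN_6436
theorem uN_7364 : Upto T.chkName 7364 := upto_add uN_6899 rfl cN_6899
theorem uN_7823 : Upto T.chkName 7823 := upto_add uN_7364 rfl cN_7364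
theorem uN_8284 : Upto T.chkName 8284 := upto_add uN_7823 rfl cN_7823
theorem uN_8746 : Upto T.chkName 8746 := upto_add uN_8284 rfl cN_8284
theorem uN_9207 : Upto T.chkName 9207 := upto_add uN_8746 rfl cN_8746
theorem uN_9664 : Upto T.chkName 9664 := upto_add uN_9207 rfl cN_9207
theorem uN_10128 : Upto T.chkName 10128 := upto_add uN_9664 rfl cN_9664
theorem uN_10592 : Upto T.chkName 10592 := upto_add uN_10128 rfl cN_10128
theorem uN_11053 : Upto T.chkName 11053 := upto_add uN_10592 rfl cN_10592
theorem uN_11512 : Upto T.chkName 11512 := upto_add uN_11053 rfl cN_11053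
theorem uN_11970 : Upto T.chkName 11970 := upto_add uN_11512 rfl cN_11512
theorem uN_12437 : Upto T.chkName 12437 := upto_add uN_11970 rfl cN_11970
theorem uN_12901 : Upto T.chkName 12901 := upto_add uN_12437 rfl cN_12437
theorem uN_13364 : Upto T.chkName 13364 := upto_add uN_12901 rfl cN_12901
theorem uN_13822 : Upto T.chkName 13822 := upto_add uN_13364 rfl cN_13364
theorem uN_14294 : Upto T.chkName 14294 := upto_add uN_13822 rfl cN_13822
theorem uN_14761 : Upto T.chkName 14761 := upto_add uN_14294 rfl cN_14294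
theorem uN_15226 : Upto T.chkName 15226 := upto_add uN_14761 rfl cN_14761
theorem uN_15687 : Upto T.chkName 15687 := upto_add uN_15226 rfl cN_15226
theorem uN_16157 : Upto T.chkName 16157 := upto_add uN_15687 rfl cN_15687
theorem uN_16628 : Upto T.chkName 16628 := upto_add uN_16157 rfl cN_16157
theorem uN_17093 : Upto T.chkName 17093 := upto_add uN_16628 rfl cN_16628
theorem uN_17554 : Upto T.chkName 17554 := upto_add uN_17093 rfl cN_17093
theorem uN_18028 : Upto T.chkName 18028 := upto_add uN_17554 rfl cN_17554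
theorem uN_18496 : Upto T.chkName 18496 := upto_add uN_18028 rfl cN_18028
theorem uN_18959 : Upto T.chkName 18959 := upto_add uN_18496 rfl cN_18496
theorem uN_19429 : Upto T.chkName 19429 := upto_add uN_18959 rfl cN_18959
theorem uN_19899 : Upto T.chkName 19899 := upto_add uN_19429 rfl cN_19429
theorem uN_20361 : Upto T.chkName 20361 := upto_add uN_19899 rfl cN_19899
theorem uN_20832 : Upto T.chkName 20832 := upto_add uN_20361 rfl cN_20361
theorem uN_21300 : Upto T.chkName 21300 := upto_add uN_20832 rfl cN_20832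
theorem uN_21762 : Upto T.chkName 21762 := upto_add uN_21300 rfl cN_21300
theorem uN_22238 : Upto T.chkName 22238 := upto_add uN_21762 rfl cN_21762
theorem uN_22702 : Upto T.chkName 22702 := upto_add uN_22238 rfl cN_22238
theorem uN_23176 : Upto T.chkName 23176 := upto_add uN_22702 rfl cN_22702
theorem uN_23646 : Upto T.chkName 23646 := upto_add uN_23176 rfl cN_23176
theorem uN_24111 : Upto T.chkName 24111 := upto_add uN_23646 rfl cN_23646
theorem uN_24591 : Upto T.chkName 24591 := upto_add uN_24111 rfl cN_24111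
theorem uN_25059 : Upto T.chkName 25059 := upto_add uN_24591 rfl cN_24591
theorem uN_25537 : Upto T.chkName 25537 := upto_add uN_25059 rfl cN_25059
theorem uN_26005 : Upto T.chkName 26005 := upto_add uN_25537 rfl cN_25537
theorem uN_26469 : Upto T.chkName 26469 := upto_add uN_26005 rfl cN_26005
theorem uN_26928 : Upto T.chkName 26928 := upto_add uN_26469 rfl cN_26469
theorem uN_27392 : Upto T.chkName 27392 := upto_add uN_26928 rfl cN_26928
theorem uN_27859 : Upto T.chkName 27859 := upto_add uN_27392 rfl cN_27392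
theorem uN_28342 : Upto T.chkName 28342 := upto_add uN_27859 rfl cN_27859
theorem uN_28889 : Upto T.chkName 28889 := upto_add uN_28342 rfl cN_28342
theorem uN_29441 : Upto T.chkName 29441 := upto_add uN_28889 rfl cN_28889
theorem uN_30006 : Upto T.chkName 30006 := upto_add uN_29441 rfl cN_29441
theorem uN_30566 : Upto T.chkName 30566 := upto_add uN_30006 rfl cN_30006
theorem uN_31128 : Upto T.chkName 31128 := upto_add uN_30566 rfl cN_30566
theorem uN_31701 : Upto T.chkName 31701 := upto_add uN_31128 rfl cN_31128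
theorem uN_32266 : Upto T.chkName 32266 := upto_add uN_31701 rfl cN_31701
theorem uN_32831 : Upto T.chkName 32831 := upto_add uN_32266 rfl cN_32266
theorem uN_33421 : Upto T.chkName 33421 := upto_add uN_32831 rfl cN_32831
theorem uN_33981 : Upto T.chkName 33981 := upto_add uN_33421 rfl cN_33421
theorem uN_34556 : Upto T.chkName 34556 := upto_add uN_33981 rfl cN_33981
theorem uN_35149 : Upto T.chkName 35149 := upto_add uN_34556 rfl cN_34556
theorem uN_35717 : Upto T.chkName 35717 := upto_add uN_35149 rfl cN_35149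
theorem uN_36275 : Upto T.chkName 36275 := upto_add uN_35717 rfl cN_35717
theorem uN_36862 : Upto T.chkName 36862 := upto_add uN_36275 rfl cN_36275
theorem uN_37453 : Upto T.chkName 37453 := upto_add uN_36862 rfl cN_36862
theorem uN_38026 : Upto T.chkName 38026 := upto_add uN_37453 rfl cN_37453
theorem uN_38592 : Upto T.chkName 38592 := upto_add uN_38026 rfl cN_38026
theorem uN_39167 : Upto T.chkName 39167 := upto_add uN_38592 rfl cN_38592
theorem uN_39759 : Upto T.chkName 39759 := upto_add uN_39167 rfl cN_39167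
theorem uN_40351 : Upto T.chkName 40351 := upto_add uN_39759 rfl cN_39759
theorem uN_40929 : Upto T.chkName 40929 := upto_add uN_40351 rfl cN_40351
theorem uN_41503 : Upto T.chkName 41503 := upto_add uN_40929 rfl cN_40929
theorem uN_42067 : Upto T.chkName 42067 := upto_add uN_41503 rfl cN_41503
theorem uN_42656 : Upto T.chkName 42656 := upto_add uN_42067 rfl cN_42067
theorem uN_43247 : Upto T.chkName 43247 := upto_add uN_42656 rfl cN_42656
theorem uN_43842 : Upto T.chkName 43842 := upto_add uN_43247 rfl cN_43247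
theorem uN_44425 : Upto T.chkName 44425 := upto_add uN_43842 rfl cN_43842
theorem uN_44997 : Upto T.chkName 44997 := upto_add uN_44425 rfl cN_44425
theorem uN_45557 : Upto T.chkName 45557 := upto_add uN_44997 rfl cN_44997
theorem uN_46126 : Upto T.chkName 46126 := upto_add uN_45557 rfl cN_45557
theorem uN_46712 : Upto T.chkName 46712 := upto_add uN_46126 rfl cN_46126
theorem uN_47304 : Upto T.chkName 47304 := upto_add uN_46712 rfl cN_46712
theorem uN_47898 : Upto T.chkName 47898 := upto_add uN_47304 rfl cN_47304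
theorem uN_48468 : Upto T.chkName 48468 := upto_add uN_47898 rfl cN_47898
theorem uN_49030 : Upto T.chkName 49030 := upto_add uN_48468 rfl cN_48468
theorem uN_49597 : Upto T.chkName 49597 := upto_add uN_49030 rfl cN_49030
theorem uN_50163 : Upto T.chkName 50163 := upto_add uN_49597 rfl cN_49597
theorem uN_50738 : Upto T.chkName 50738 := upto_add uN_50163 rfl cN_50163
theorem uN_51337 : Upto T.chkName 51337 := upto_add uN_50738 rfl cN_50738
theorem uN_51925 : Upto T.chkName 51925 := upto_add uN_51337 rfl cN_51337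
theorem uN_52502 : Upto T.chkName 52502 := upto_add uN_51925 rfl cN_51925
theorem uN_53081 : Upto T.chkName 53081 := upto_add uN_52502 rfl cN_52502
theorem uN_53653 : Upto T.chkName 53653 := upto_add uN_53081 rfl cN_53081
theorem uN_54218 : Upto T.chkName 54218 := upto_add uN_53653 rfl cN_53653
theorem uN_54790 : Upto T.chkName 54790 := upto_add uN_54218 rfl cN_54218
theorem uN_55364 : Upto T.chkName 55364 := upto_add uN_54790 rfl cN_54790
theorem uN_55961 : Upto T.chkName 55961 := upto_add uN_55364 rfl cN_55364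
theorem uN_56551 : Upto T.chkName 56551 := upto_add uN_55961 rfl cN_55961
theorem uN_57132 : Upto T.chkName 57132 := upto_add uN_56551 rfl cN_56551
theorem uN_57716 : Upto T.chkName 57716 := upto_add uN_57132 rfl cN_57132
theorem uN_58290 : Upto T.chkName 58290 := upto_add uN_57716 rfl cN_57716
theorem uN_58876 : Upto T.chkName 58876 := upto_add uN_58290 rfl cN_58290
theorem uN_59443 : Upto T.chkName 59443 := upto_add uN_58876 rfl cN_58876
theorem uN_60024 : Upto T.chkName 60024 := upto_add uN_59443 rfl cN_59443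
theorem uN_60603 : Upto T.chkName 60603 := upto_add uN_60024 rfl cN_60024
theorem uN_61203 : Upto T.chkName 61203 := upto_add uN_60603 rfl cN_60603
theorem uN_61795 : Upto T.chkName 61795 := upto_add uN_61203 rfl cN_61203
theorem uN_62382 : Upto T.chkName 62382 := upto_add uN_61795 rfl cN_61795
theorem uN_62971 : Upto T.chkName 62971 := upto_add uN_62382 rfl cN_62382
theorem uN_63554 : Upto T.chkName 63554 := upto_add uN_62971 rfl cN_62971
theorem uN_64144 : Upto T.chkName 64144 := upto_add uN_63554 rfl cN_63554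
theorem uN_64727 : Upto T.chkName 64727 := upto_add uN_64144 rfl cN_64144
theorem uN_65301 : Upto T.chkName 65301 := upto_add uN_64727 rfl cN_64727
theorem uN_65884 : Upto T.chkName 65884 := upto_add uN_65301 rfl cN_65301
theorem uN_66478 : Upto T.chkName 66478 := upto_add uN_65884 rfl cN_65884
theorem uN_67080 : Upto T.chkName 67080 := upto_add uN_66478 rfl cN_66478
theorem uN_67673 : Upto T.chkName 67673 := upto_add uN_67080 rfl cN_67080
theorem uN_68256 : Upto T.chkName 68256 := upto_add uN_67673 rfl cN_67673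
theorem uN_68856 : Upto T.chkName 68856 := upto_add uN_68256 rfl cN_68256
theorem uN_69441 : Upto T.chkName 69441 := upto_add uN_68856 rfl cN_68856
theorem uN_70037 : Upto T.chkName 70037 := upto_add uN_69441 rfl cN_69441
theorem uN_70615 : Upto T.chkName 70615 := upto_add uN_70037 rfl cN_70037
theorem uN_71201 : Upto T.chkName 71201 := upto_add uN_70615 rfl cN_70615
theorem uN_71783 : Upto T.chkName 71783 := upto_add uN_71201 rfl cN_71201
theorem uN_72388 : Upto T.chkName 72388 := upto_add uN_71783 rfl cN_71783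
theorem uN_72980 : Upto T.chkName 72980 := upto_add uN_72388 rfl cN_72388
theorem uN_73564 : Upto T.chkName 73564 := upto_add uN_72980 rfl cN_72980
theorem uN_74166 : Upto T.chkName 74166 := upto_add uN_73564 rfl cN_73564
theorem uN_74755 : Upto T.chkName 74755 := upto_add uN_74166 rfl cN_74166
theorem uN_75348 : Upto T.chkName 75348 := upto_add uN_74755 rfl cN_74755
theorem uN_75938 : Upto T.chkName 75938 := upto_add uN_75348 rfl cN_75348
theorem uN_76523 : Upto T.chkName 76523 := upto_add uN_75938 rfl cN_75938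
theorem uN_77106 : Upto T.chkName 77106 := upto_add uN_76523 rfl cN_76523
theorem uN_77700 : Upto T.chkName 77700 := upto_add uN_77106 rfl cN_77106
theorem uN_78297 : Upto T.chkName 78297 := upto_add uN_77700 rfl cN_77700
theorem uN_78891 : Upto T.chkName 78891 := upto_add uN_78297 rfl cN_78297
theorem uN_79493 : Upto T.chkName 79493 := upto_add uN_78891 rfl cN_78891
theorem uN_80084 : Upto T.chkName 80084 := upto_add uN_79493 rfl cN_79493
theorem uN_80681 : Upto T.chkName 80681 := upto_add uN_80084 rfl cN_80084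
theorem uN_81278 : Upto T.chkName 81278 := upto_add uN_80681 rfl cN_80681
theorem uN_81871 : Upto T.chkName 81871 := upto_add uN_81278 rfl cN_81278
theorem uN_82456 : Upto T.chkName 82456 := upto_add uN_81871 rfl cN_81871
theorem uN_83046 : Upto T.chkName 83046 := upto_add uN_82456 rfl cN_82456
theorem uN_83647 : Upto T.chkName 83647 := upto_add uN_83046 rfl cN_83046
theorem uN_84248 : Upto T.chkName 84248 := upto_add uN_83647 rfl cN_83647
theorem uN_84844 : Upto T.chkName 84844 := upto_add uN_84248 rfl cN_84248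
theorem uN_85436 : Upto T.chkName 85436 := upto_add uN_84844 rfl cN_84844
theorem uN_86045 : Upto T.chkName 86045 := upto_add uN_85436 rfl cN_85436
theorem uN_86661 : Upto T.chkName 86661 := upto_add uN_86045 rfl cN_86045
theorem uN_87275 : Upto T.chkName 87275 := upto_add uN_86661 rfl cN_86661
theorem uN_87903 : Upto T.chkName 87903 := upto_add uN_87275 rfl cN_87275
theorem uN_88533 : Upto T.chkName 88533 := upto_add uN_87903 rfl cN_87903
theorem uN_89163 : Upto T.chkName 89163 := upto_add uN_88533 rfl cN_88533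
theorem uN_89319 : Upto T.chkName 89319 := upto_add uN_89163 rfl cN_89163
theorem uV_471 : Upto T.chkV 471 := upto_add (upto_zero T.chkV) rfl cV_0
theorem uV_942 : Upto T.chkV 942 := upto_add uV_471 rfl cV_471
theorem uV_1413 : Upto T.chkV 1413 := upto_add uV_942 rfl cV_942
theorem uV_1884 : Upto T.chkV 1884 := upto_add uV_1413 rfl cV_1413
theorem uV_2355 : Upto T.chkV 2355 := upto_add uV_1884 rfl cV_1884
theorem uV_2826 : Upto T.chkV 2826 := upto_add uV_2355 rfl cV_2355
theorem uV_3297 : Upto T.chkV 3297 := upto_add uV_2826 rfl cV_2826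
theorem uV_3768 : Upto T.chkV 3768 := upto_add uV_3297 rfl cV_3297
theorem uV_4239 : Upto T.chkV 4239 := upto_add uV_3768 rfl cV_3768
theorem uV_4710 : Upto T.chkV 4710 := upto_add uV_4239 rfl cV_4239
theorem uV_5181 : Upto T.chkV 5181 := upto_add uV_4710 rfl cV_4710
theorem uV_5652 : Upto T.chkV 5652 := upto_add uV_5181 rfl cV_5181
theorem uV_6123 : Upto T.chkV 6123 := upto_add uV_5652 rfl cV_5652
theorem uV_6594 : Upto T.chkV 6594 := upto_add uV_6123 rfl cV_6123
theorem uV_7065 : Upto T.chkV 7065 := upto_add uV_6594 rfl cV_6594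
theorem uV_7536 : Upto T.chkV 7536 := upto_add uV_7065 rfl cV_7065
theorem uV_8007 : Upto T.chkV 8007 := upto_add uV_7536 rfl cV_7536
theorem uV_8478 : Upto T.chkV 8478 := upto_add uV_8007 rfl cV_8007
theorem uV_8949 : Upto T.chkV 8949 := upto_add uV_8478 rfl cV_8478
theorem uV_9420 : Upto T.chkV 9420 := upto_add uV_8949 rfl cV_8949
theorem uV_9891 : Upto T.chkV 9891 := upto_add uV_9420 rfl cV_9420
theorem uV_10362 : Upto T.chkV 10362 := upto_add uV_9891 rfl cV_9891
theorem uV_10833 : Upto T.chkV 10833 := upto_add uV_10362 rfl cV_10362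
theorem uV_11304 : Upto T.chkV 11304 := upto_add uV_10833 rfl cV_10833
theorem uV_11775 : Upto T.chkV 11775 := upto_add uV_11304 rfl cV_11304
theorem uV_12246 : Upto T.chkV 12246 := upto_add uV_11775 rfl cV_11775
theorem uV_12717 : Upto T.chkV 12717 := upto_add uV_12246 rfl cV_12246
theorem uV_13188 : Upto T.chkV 13188 := upto_add uV_12717 rfl cV_12717
theorem uV_13659 : Upto T.chkV 13659 := upto_add uV_13188 rfl cV_13188
theorem uV_14130 : Upto T.chkV 14130 := upto_add uV_13659 rfl cV_13659
theorem uV_14601 : Upto T.chkV 14601 := upto_add uV_14130 rfl cV_14130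
theorem uV_15072 : Upto T.chkV 15072 := upto_add uV_14601 rfl cV_14601
theorem uV_15543 : Upto T.chkV 15543 := upto_add uV_15072 rfl cV_15072
theorem uV_16014 : Upto T.chkV 16014 := upto_add uV_15543 rfl cV_15543
theorem uV_16485 : Upto T.chkV 16485 := upto_add uV_16014 rfl cV_16014
theorem uV_16956 : Upto T.chkV 16956 := upto_add uV_16485 rfl cV_16485
theorem uV_17427 : Upto T.chkV 17427 := upto_add uV_16956 rfl cV_16956
theorem uV_17898 : Upto T.chkV 17898 := upto_add uV_17427 rfl cV_17427
theorem uV_18369 : Upto T.chkV 18369 := upto_add uV_17898 rfl cV_17898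
theorem uV_18840 : Upto T.chkV 18840 := upto_add uV_18369 rfl cV_18369
theorem uV_19311 : Upto T.chkV 19311 := upto_add uV_18840 rfl cV_18840
theorem uV_19782 : Upto T.chkV 19782 := upto_add uV_19311 rfl cV_19311
theorem uV_20253 : Upto T.chkV 20253 := upto_add uV_19782 rfl cV_19782
theorem uV_20724 : Upto T.chkV 20724 := upto_add uV_20253 rfl cV_20253
theorem uV_21195 : Upto T.chkV 21195 := upto_add uV_20724 rfl cV_20724
theorem uV_21666 : Upto T.chkV 21666 := upto_add uV_21195 rfl cV_21195
theorem uV_22137 : Upto T.chkV 22137 := upto_add uV_21666 rfl cV_21666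
theorem uV_22608 : Upto T.chkV 22608 := upto_add uV_22137 rfl cV_22137
theorem uV_23079 : Upto T.chkV 23079 := upto_add uV_22608 rfl cV_22608
theorem uV_23550 : Upto T.chkV 23550 := upto_add uV_23079 rfl cV_23079
theorem uV_24021 : Upto T.chkV 24021 := upto_add uV_23550 rfl cV_23550
theorem uV_24492 : Upto T.chkV 24492 := upto_add uV_24021 rfl cV_24021
theorem uV_24963 : Upto T.chkV 24963 := upto_add uV_24492 rfl cV_24492
theorem uV_25434 : Upto T.chkV 25434 := upto_add uV_24963 rfl cV_24963
theorem uV_25905 : Upto T.chkV 25905 := upto_add uV_25434 rfl cV_25434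
theorem uV_26376 : Upto T.chkV 26376 := upto_add uV_25905 rfl cV_25905
theorem uV_26847 : Upto T.chkV 26847 := upto_add uV_26376 rfl cV_26376
theorem uV_27318 : Upto T.chkV 27318 := upto_add uV_26847 rfl cV_26847
theorem uV_27789 : Upto T.chkV 27789 := upto_add uV_27318 rfl cV_27318
theorem uV_28160 : Upto T.chkV 28160 := upto_add uV_27789 rfl cV_27789

/-- The certificate is valid. -/
theorem cert : T.Cert where
  h0 := by decide +kernel
  hrx := by decide +kernel
  hs0 := by decide +kernel
  hname := uN_89319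
  hV := uV_28160

theorem orep_0 : T.orep 0 < T.N ∧ T.ol (T.orep 0) = 0 := by decide +kernel
theorem cnt_0 : countLt (fun v => Nat.beq (T.ol v) 0) T.N = 1 := by decide +kernel
theorem orep_1 : T.orep 1 < T.N ∧ T.ol (T.orep 1) = 1 := by decide +kernel
theorem cnt_1 : countLt (fun v => Nat.beq (T.ol v) 1) T.N = 3159 := by decide +kernel
theorem orep_2 : T.orep 2 < T.N ∧ T.ol (T.orep 2) = 2 := by decide +kernel
theorem cnt_2 : countLt (fun v => Nat.beq (T.ol v) 2) T.N = 3159 := by decide +kernel
theorem orep_3 : T.orep 3 < T.N ∧ T.ol (T.orep 3) = 3 := by decide +kernel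
theorem cnt_3 : countLt (fun v => Nat.beq (T.ol v) 3) T.N = 21840 := by decide +kernel
theorem orep_4 : T.orep 4 < T.N ∧ T.ol (T.orep 4) = 4 := by decide +kernel
theorem cnt_4 : countLt (fun v => Nat.beq (T.ol v) 4) T.N = 1 := by decide +kernel

end Cfsg.Agent.Lib.Helper56.Fi24V9
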